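import Cfsg.Agent.Lib.H06.Brauer4
import Cfsg.Agent.Lib.H06.CharClifford2
import Cfsg.Agent.Lib.H23.Ito2
import Cfsg.Agent.Lib.H23.LinInd
import Cfsg.Agent.Lib.H01.CharEquiv

/-!
# Clifford theory: strong form of the correspondence
-/

set_option autoImplicit false
set_option linter.style.haveILetI false
set_option linter.unusedSectionVars false
set_option linter.unusedSimpArgs false
set_option linter.unusedVariables false

namespace Cfsg.Agent.H04.Cliff

open Cfsg Cfsg.Agent.H21 Cfsg.Agent.H06 Module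
open scoped ComplexConjugate

universe u

section Strong

variable {N : Type u} [Group N] [Fintype N]

/-- Existence part of the Clifford correspondence, with the multiplicities. -/
theorem clifford_ext (H T : Subgroup N) [hN : H.Normal] [Fintype H] [Fintype T] (hHT : H ≤ T)
    {θ : H → ℂ} (hθ : IsIrrCharacter H θ)
    (hT : ∀ g : N, g ∈ T ↔ ∀ h : H, θ ⟨g * h * g⁻¹, hN.conj_mem h h.2 g⟩ = θ h)
    {χ : N → ℂ} (hχ : IsIrrCharacter N χ) (hc : classInner (fun h : H => χ h) θ ≠ 0) :
    ∃ (ψ : T → ℂ) (e : ℕ), IsIrrCharacter T ψ ∧ e ≠ 0 ∧ χ = indFun T ψ ∧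
      (∀ h : H, ψ ⟨h, hHT h.2⟩ = e * θ h) ∧ classInner (fun h : H => χ h) θ = e := by
  classical
  haveI : Fintype (H.subgroupOf T) := Fintype.ofFinite _
  haveI : Fintype (IrrCharacter T) := Fintype.ofFinite _
  haveI : Fintype (IrrCharacter N) := Fintype.ofFinite _
  have hχc := isCharacter_of_irr hχ
  have hχT : IsCharacter T (fun t : T => χ t) := isCharacter_restrict T hχc
  have hclT := isClassFunction_of_isCharacter hχT
  set θ' : H.subgroupOf T → ℂ := subTheta H T θ with hθ'
  have hcard : Nat.card (H.subgroupOf T) = Nat.card H :=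
    Nat.card_congr (Subgroup.subgroupOfEquivOfLe hHT).toEquiv
  have h1 : classInner (fun h : H.subgroupOf T => χ ((h : T) : N)) θ' =
      classInner (fun h : H => χ h) θ := by
    simp only [classInner]
    rw [hcard]
    congr 1
    refine Fintype.sum_equiv (Subgroup.subgroupOfEquivOfLe hHT).toEquiv _ _ fun h => ?_
    rfl
  have h2 : classInner (indFun (H.subgroupOf T) θ') (fun t : T => χ t) ≠ 0 := by
    rw [frobenius_reciprocity (H.subgroupOf T) θ' _ hclT]
    intro h3
    apply hc
    rw [← h1, ← classInner_comm_conj, h3, map_zero]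
  have hind := isCharacter_indFun (H.subgroupOf T) (isCharacter_of_irr (subTheta_irr H T hHT hθ))
  rw [classInner_parseval (isClassFunction_of_isCharacter hind) hclT] at h2
  obtain ⟨ψ, -, hψ⟩ := Finset.exists_ne_zero_of_sum_ne_zero h2
  have hψ1 := left_ne_zero_of_mul hψ
  have hψ2 : classInner (fun t : T => χ t) (ψ : T → ℂ) ≠ 0 := by
    intro h
    apply right_ne_zero_of_mul hψ
    rw [h, map_zero]
  obtain ⟨hirr, -⟩ := clifford_correspondence H T hHT hθ hT ψ.2 ψ.2 hψ1 hψ1
  obtain ⟨e, he, -, hres⟩ := restrict_of_inner_ne H T hHT hθ hT ψ.2 hψ1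
  have h3 : classInner (indFun T (ψ : T → ℂ)) χ ≠ 0 := by
    rw [frobenius_reciprocity T _ _ (isClassFunction_of_isCharacter hχc)]
    intro h
    apply hψ2
    rw [← classInner_comm_conj, h, map_zero]
  have hχeq : χ = indFun T (ψ : T → ℂ) := by
    by_contra hne
    exact h3 (classInner_irr_ne hirr hχ (fun h => hne h.symm))
  refine ⟨ψ, e, ψ.2, he, hχeq, hres, ?_⟩
  have := inner_ind_restrict H T hHT hθ hT hres
  rw [← hχeq] at this
  exact this

end Strong

end Cfsg.Agent.H04.Cliff
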