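import Cfsg.Agent.Lib.H04.Cliff.Extend

/-!
# Determinantal characters and canonical extensions
-/

set_option autoImplicit false
set_option linter.style.haveILetI false
set_option linter.unusedSectionVars false
set_option linter.unusedSimpArgs false
set_option linter.unusedVariables false

namespace Cfsg.Agent.H04.Cliff

open Cfsg Cfsg.Agent.H21 Module

universe u v

section DetU

variable {G : Type u} [Group G] {V : Type*} [AddCommGroup V] [Module ℂ V]

/-- The determinant as a homomorphism to units. -/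
noncomputable def detU (σ : Representation ℂ G V) : G →* ℂˣ :=
  MonoidHom.toHomUnits ((LinearMap.det : Module.End ℂ V →* ℂ).comp σ)

@[simp] theorem coe_detU (σ : Representation ℂ G V) (g : G) :
    (detU σ g : ℂ) = LinearMap.det (σ g) := rfl

variable [Finite G] [FiniteDimensional ℂ V]

/-- The determinantal character of the character of a representation. -/
theorem detChar_rep (σ : Representation ℂ G V) (g : G) :
    detChar σ.character g = LinearMap.det (σ g) := by
  have h : IsCharacter G σ.character := isCharacter_of_rep σ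
  unfold detChar
  rw [dif_pos h]
  have h1 := Classical.choose_spec (Classical.choose_spec h)
  exact Cfsg.Agent.H06.det_eq_of_character_eq _ σ h1 g

theorem detChar_rep_fun (σ : Representation ℂ G V) :
    detChar σ.character = fun g => (detU σ g : ℂ) := by
  funext g
  exact detChar_rep σ g

/-- The order of the determinantal character. -/
theorem detOrder_rep (σ : Representation ℂ G V) : detOrder σ.character = orderOf (detU σ) := by
  unfold detOrder
  rw [detChar_rep_fun, orderOf_coe]

end DetU

section Core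

variable {G : Type u} [Group G] [Finite G] {N : Subgroup G} [hN : N.Normal]
  {W : Type*} [AddCommGroup W] [Module ℂ W] [FiniteDimensional ℂ W] {ρ : Representation ℂ N W}

/-- Twisting a representation by a linear character. -/
noncomputable def twistRep (τ : Representation ℂ G W) (β : G →* ℂˣ) : Representation ℂ G W where
  toFun g := (β g : ℂ) • τ g
  map_one' := by simp
  map_mul' a b := by
    simp only [map_mul, Units.val_mul, smul_mul_smul_comm]

@[simp] theorem twistRep_apply (τ : Representation ℂ G W) (β : G →* ℂˣ) (g : G) :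
    twistRep τ β g = (β g : ℂ) • τ g := rfl

/-- Existence and uniqueness of the extension with a prescribed determinant. -/
theorem det_ext_unique (hρ : ρ.IsIrreducible) (τ : Representation ℂ G W)
    (hτ : ∀ n : N, τ n = ρ n) (hcop : Nat.Coprime N.index (finrank ℂ W)) (μ : G →* ℂˣ)
    (hμ : ∀ n : N, (μ n : ℂ) = LinearMap.det (ρ n)) :
    ∃ τ' : Representation ℂ G W, (∀ n : N, τ' n = ρ n) ∧ (∀ g, (μ g : ℂ) = LinearMap.det (τ' g)) ∧
      ∀ τ'' : Representation ℂ G W, (∀ n : N, τ'' n = ρ n) →
        (∀ g, (μ g : ℂ) = LinearMap.det (τ'' g)) → τ'' = τ' := by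
  classical
  haveI := nontrivial_of_irr hρ
  set m := N.index with hm
  set d := finrank ℂ W with hd
  let β₀ : G →* ℂˣ := μ * (detU τ)⁻¹
  have hβ₀N : ∀ n : N, β₀ n = 1 := by
    intro n
    have h1 : detU τ n = μ n := by
      apply Units.ext
      rw [coe_detU, hμ, hτ]
    simp only [β₀, MonoidHom.mul_apply, MonoidHom.inv_apply, h1, mul_inv_cancel]
  have hβ₀m : ∀ g, β₀ g ^ m = 1 := fun g =>
    DFunLike.congr_fun (pow_index_of_trivial N β₀ hβ₀N) g
  -- an inverse of `d` modulo `m`
  let k := Nat.chineseRemainder hcop 1 0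
  have hk1 : (k : ℕ) ≡ 1 [MOD m] := k.2.1
  have hk2 : (k : ℕ) ≡ 0 [MOD d] := k.2.2
  obtain ⟨a, ha⟩ := (Nat.modEq_zero_iff_dvd).mp hk2
  have hpowk : ∀ g, β₀ g ^ (k : ℕ) = β₀ g := by
    intro g
    have h1 : orderOf (β₀ g) ∣ m := orderOf_dvd_of_pow_eq_one (hβ₀m g)
    have h2 : (k : ℕ) ≡ 1 [MOD orderOf (β₀ g)] := hk1.of_dvd h1
    have h3 := (pow_eq_pow_iff_modEq (x := β₀ g)).mpr h2
    simpa using h3
  let β : G →* ℂˣ := β₀ ^ a
  have hβ : ∀ g, β g = β₀ g ^ a := fun _ => rfl
  have hβN : ∀ n : N, β n = 1 := by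
    intro n
    rw [hβ, hβ₀N, one_pow]
  refine ⟨twistRep τ β, fun n => ?_, fun g => ?_, ?_⟩
  · simp [hβN, hτ]
  · rw [twistRep_apply, LinearMap.det_smul]
    have h1 : ((β g : ℂˣ) : ℂ) ^ d = (β₀ g : ℂ) := by
      rw [hβ, ← Units.val_pow_eq_pow_val, ← pow_mul, mul_comm, ← ha, hpowk]
    rw [h1]
    have h2 : μ g = β₀ g * detU τ g := by
      simp [β₀]
    rw [h2, Units.val_mul, coe_detU]
  · intro τ'' hτ'' hdet''
    have hτ' : ∀ n : N, twistRep τ β n = ρ n := by
      intro n
      simp [hβN, hτ]
    obtain ⟨γ, hγN, hγ⟩ := ext_rep_ratio hρ (twistRep τ β) τ'' hτ' hτ''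
    have hdet' : ∀ g, (μ g : ℂ) = LinearMap.det (twistRep τ β g) := by
      intro g
      rw [twistRep_apply, LinearMap.det_smul]
      have h1 : ((β g : ℂˣ) : ℂ) ^ d = (β₀ g : ℂ) := by
        rw [hβ, ← Units.val_pow_eq_pow_val, ← pow_mul, mul_comm, ← ha, hpowk]
      rw [h1]
      have h2 : μ g = β₀ g * detU τ g := by
        simp [β₀]
      rw [h2, Units.val_mul, coe_detU]
    have hγd : ∀ g, γ g ^ d = 1 := by
      intro g
      have h1 := hdet'' g
      rw [hγ g, LinearMap.det_smul, ← hdet' g] at h1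
      have h2 : ((γ g : ℂˣ) : ℂ) ^ d = 1 := by
        have h3 : (μ g : ℂ) ≠ 0 := Units.ne_zero _
        have h4 : (μ g : ℂ) * 1 = (μ g : ℂ) * ((γ g : ℂˣ) : ℂ) ^ d := by
          rw [mul_one, mul_comm]
          exact h1
        exact (mul_left_cancel₀ h3 h4).symm
      apply Units.ext
      simpa using h2
    have hγm : ∀ g, γ g ^ m = 1 := fun g =>
      DFunLike.congr_fun (pow_index_of_trivial N γ hγN) g
    have hγ1 : ∀ g, γ g = 1 := by
      intro g
      exact orderOf_eq_one_iff.mp (Nat.eq_one_of_dvd_coprimes hcop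
        (orderOf_dvd_of_pow_eq_one (hγm g)) (orderOf_dvd_of_pow_eq_one (hγd g)))
    refine MonoidHom.ext fun g => ?_
    rw [hγ g, hγ1]
    simp

/-- The determinant of `ρ` is invariant. -/
theorem det_conj_inv (hρ : ρ.IsIrreducible)
    (hinv : ∀ (g : G) (n : N), ρ.character (cj N g n) = ρ.character n) (g : G) (n : N) :
    detU ρ ⟨g * n * g⁻¹, hN.conj_mem n n.2 g⟩ = detU ρ n := by
  obtain ⟨P, hP⟩ := exists_mem_Gam hρ hinv g
  apply Units.ext
  simp only [coe_detU]
  have h1 := hP.2 n
  simp only at h1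
  have h2 := congrArg LinearMap.det h1
  rw [map_mul, map_mul] at h2
  have hP1 : LinearMap.det (P : Module.End ℂ W) = 1 := hP.1
  rw [hP1, one_mul, mul_one] at h2
  exact h2.symm

end Core

end Cfsg.Agent.H04.Cliff

namespace Cfsg.Agent.H04.Cliff

open Cfsg Cfsg.Agent.H21 Module

section Top

variable {G : Type*} [Group G] [Finite G] {N : Subgroup G} [hN : N.Normal]
  {W : Type*} [AddCommGroup W] [Module ℂ W] [FiniteDimensional ℂ W] {ρ : Representation ℂ N W}

/-- From a representation extending `ρ` to an irreducible character extending its character. -/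
theorem char_of_ext (hρ : ρ.IsIrreducible) {τ : Representation ℂ G W} (hτ : ∀ n : N, τ n = ρ n) :
    IsIrrCharacter G τ.character ∧ ∀ n : N, τ.character n = ρ.character n := by
  refine ⟨isIrrCharacter_of_rep τ (irr_of_restrict hρ (fun n => ⟨1, n, by simp [hτ]⟩)), fun n => ?_⟩
  show LinearMap.trace ℂ W (τ n) = LinearMap.trace ℂ W (ρ n)
  rw [hτ]

end Top

section Tops

variable {G : Type*} [Group G] [Finite G] {N : Subgroup G} [hN : N.Normal]

/-- `finrank` of a coordinate space from the degree. -/
theorem finrank_of_degree {m d : ℕ} (ρ : Representation ℂ N (Fin m → ℂ)) (h : ρ.character 1 = (d : ℂ)) :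
    finrank ℂ (Fin m → ℂ) = d := by
  have h1 : ρ.character 1 = (finrank ℂ (Fin m → ℂ) : ℂ) := by
    simp [Representation.character]
  rw [h1] at h
  exact_mod_cast h

end Tops

end Cfsg.Agent.H04.Cliff
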