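import Cfsg.Agent.Lib.H04.Cliff.Gallagher
import Cfsg.Agent.Lib.H04.Cliff.Det

/-!
# `χ(1)/θ(1)` divides `|G : N|`
-/

set_option autoImplicit false
set_option linter.style.haveILetI false
set_option linter.unusedSectionVars false
set_option linter.unusedSimpArgs false
set_option linter.unusedVariables false

namespace Cfsg.Agent.H04.Cliff

open Cfsg Cfsg.Agent.H21 Cfsg.Agent.H06 Module
open scoped ComplexConjugate

universe u

section Inert

variable {L : Type u} [Group L] (K : Subgroup L) [hK : K.Normal]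

/-- The inertia group of a function on a normal subgroup. -/
def inertG (θ : K → ℂ) : Subgroup L where
  carrier := {g | ∀ h : K, θ ⟨g * h * g⁻¹, hK.conj_mem h h.2 g⟩ = θ h}
  mul_mem' := by
    intro a b ha hb h
    have h1 := ha ⟨b * h * b⁻¹, hK.conj_mem h h.2 b⟩
    have h2 := hb h
    rw [← h2, ← h1]
    congr 1
    apply Subtype.ext
    simp [mul_assoc]
  one_mem' := by
    intro h
    congr 1
    apply Subtype.ext
    simp
  inv_mem' := by
    intro a ha h
    have h1 := ha ⟨a⁻¹ * h * a⁻¹⁻¹, hK.conj_mem h h.2 a⁻¹⟩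
    rw [← h1]
    congr 1
    apply Subtype.ext
    simp [mul_assoc]

theorem mem_inertG {θ : K → ℂ} {g : L} :
    g ∈ inertG K θ ↔ ∀ h : K, θ ⟨g * h * g⁻¹, hK.conj_mem h h.2 g⟩ = θ h := Iff.rfl

end Inert

section Deg

variable {G : Type u} [Group G] [Fintype G] (N : Subgroup G) [hN : N.Normal]

/-- The multiplicity of an invariant character divides the index. -/
theorem multiplicity_dvd_index {ϑ : N → ℂ} (hϑ : IsIrrCharacter N ϑ)
    (hinv : ∀ t : G, twist N ϑ t = ϑ) {χ : G → ℂ} (hχ : IsIrrCharacter G χ) {e : ℕ}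
    (hres : ∀ n : N, χ n = e * ϑ n) : e ∣ N.index := by
  classical
  obtain ⟨m, ρ, hρ, rfl⟩ := hϑ
  have hinv' : ∀ (g : G) (n : N), ρ.character (cj N g n) = ρ.character n := fun g n =>
    congrFun (hinv g) n
  haveI hfin : Finite (Gam N ρ) := Gam_finite hρ hinv'
  haveI : Fintype (Gam N ρ) := Fintype.ofFinite _
  haveI : Fintype (GamH N ρ N) := Fintype.ofFinite _
  haveI : Fintype N := Fintype.ofFinite _
  haveI : Fintype (IrrCharacter (Gam N ρ)) := Fintype.ofFinite _
  set θ : N → ℂ := ρ.character with hθ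
  have hπ := prj_surjective hρ hinv'
  -- lifts of elements of `N`
  have hlift : ∀ n : N, ∃ x : GamH N ρ N, x.1.1.2 = n := by
    intro n
    obtain ⟨x, hx⟩ := hπ n
    exact ⟨⟨x, by
      show x.1.2 ∈ N
      have : x.1.2 = n := hx
      rw [this]
      exact n.2⟩, hx⟩
  -- the restricted projection
  let π' : GamH N ρ N →* N :=
    { toFun := fun x => ⟨x.1.1.2, x.2⟩
      map_one' := rfl
      map_mul' := fun _ _ => rfl }
  have hπ' : Function.Surjective π' := by
    intro n
    obtain ⟨x, hx⟩ := hlift n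
    exact ⟨x, Subtype.ext hx⟩
  -- the tautological character
  set τ := tau N ρ with hτdef
  have hτirr : τ.IsIrreducible := by
    refine irr_of_restrict hρ fun n => ?_
    obtain ⟨x, hx⟩ := hπ' n
    refine ⟨((phi hρ x : ℂ))⁻¹, x.1, ?_⟩
    have h1 := phi_spec hρ x
    show ρ n = _ • (x.1.1.1 : Module.End ℂ (Fin m → ℂ))
    rw [h1, smul_smul, inv_mul_cancel₀ (Units.ne_zero _), one_smul, ← hx]
    rfl
  -- the value of `τ` on `N̂`
  have hτval : ∀ x : GamH N ρ N, τ.character x.1 = (phi hρ x : ℂ) * θ (π' x) := by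
    intro x
    show LinearMap.trace ℂ _ (x.1.1.1 : Module.End ℂ (Fin m → ℂ)) = _
    rw [phi_spec hρ x, map_smul]
    rfl
  let φb : GamH N ρ N →* ℂˣ := (phi hρ)⁻¹
  let φc : GamH N ρ N → ℂ := fun x => (φb x : ℂ)
  let ϑc : GamH N ρ N → ℂ := fun x => τ.character x.1
  have hφc : IsIrrCharacter (GamH N ρ N) φc := H23.isIrrCharacter_hom φb
  have hprodeq : φc * ϑc = θ ∘ π' := by
    funext x
    show ((phi hρ x)⁻¹ : ℂˣ).1 * τ.character x.1 = θ (π' x)
    rw [hτval x, ← mul_assoc]
    simp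
  have hprod : IsIrrCharacter (GamH N ρ N) (φc * ϑc) := by
    rw [hprodeq]
    exact isIrrCharacter_comp_of_surjective π' hπ' ⟨m, ρ, hρ, rfl⟩
  have hφinv : ∀ t : Gam N ρ, twist (GamH N ρ N) φc t = φc := by
    intro t
    funext x
    show (((phi hρ) ⟨t * x * t⁻¹, _⟩)⁻¹ : ℂˣ).1 = ((phi hρ x)⁻¹ : ℂˣ).1
    rw [phi_conj hρ t x]
  have hτc : IsCharacter (Gam N ρ) τ.character := isCharacter_of_rep τ
  have hϑinv : ∀ t : Gam N ρ, twist (GamH N ρ N) ϑc t = ϑc := by
    intro t
    funext x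
    exact isCharacter_conj hτc x.1 t
  have hbij := gallagher_bij (GamH N ρ N) hφc hprod hφinv hϑinv hτc (fun n => rfl)
  -- the inflated character
  let ψ : Gam N ρ → ℂ := χ ∘ prj N ρ
  have hψ : IsIrrCharacter (Gam N ρ) ψ := isIrrCharacter_comp_of_surjective _ hπ hχ
  have hθ1 : θ 1 ≠ 0 := irr_one_ne_zero' ⟨m, ρ, hρ, rfl⟩
  have he0 : e ≠ 0 := by
    rintro rfl
    have := hres 1
    simp only [OneMemClass.coe_one, Nat.cast_zero, zero_mul] at this
    exact irr_one_ne_zero' hχ this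
  have hψres : (fun x : GamH N ρ N => ψ x.1) = (e : ℂ) • (θ ∘ π') := by
    funext x
    exact hres (π' x)
  have hmem : ψ ∈ {ψ : Gam N ρ → ℂ | IsIrrCharacter (Gam N ρ) ψ ∧
      classInner (indFun (GamH N ρ N) (φc * ϑc)) ψ ≠ 0} := by
    refine ⟨hψ, ?_⟩
    rw [frobenius_reciprocity _ _ _ (isClassFunction_of_isCharacter (isCharacter_of_irr hψ)),
      hψres, hprodeq, classInner_smul_right,
      classInner_irr_self (isIrrCharacter_comp_of_surjective π' hπ' ⟨m, ρ, hρ, rfl⟩)]
    simpa using he0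
  obtain ⟨β, ⟨hβ, hβc⟩, hβψ⟩ := hbij.surjOn hmem
  simp only at hβψ
  obtain ⟨k, hk, -, hkres⟩ := clifford_restrict (GamH N ρ N) hφc hβ hφinv hβc
  have hβ1 : β 1 = k := by
    have := hkres 1
    simp only [OneMemClass.coe_one] at this
    rw [this]
    simp [φc]
  have hdeg : charDegree β = k := by
    have h1 := one_eq_charDegree (isCharacter_of_irr hβ)
    rw [hβ1] at h1
    exact_mod_cast h1.symm
  -- norm of `φc`
  have hnorm : ∀ x : GamH N ρ N, ‖φc x‖ = 1 := by
    intro x
    exact linear_norm (isCharacter_of_irr hφc) (H23.charDegree_hom φb) x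
  have hdvd : charDegree β ∣ (GamH N ρ N).index := by
    refine H23.degree_dvd_index_of_norm hβ _ fun a ha => ?_
    have h1 := hkres ⟨a, ha⟩
    simp only at h1
    rw [h1, norm_mul, hnorm, mul_one, hdeg]
    simp
  rw [index_GamH hρ hinv', hdeg] at hdvd
  -- comparing degrees
  have hk_e : k = e := by
    have h1 := congrFun hβψ 1
    simp only [Pi.mul_apply] at h1
    have h2 : ψ 1 = χ 1 := by
      show χ (prj N ρ 1) = χ 1
      rw [map_one]
    have h3 := hres 1
    simp only [OneMemClass.coe_one] at h3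
    have h4 : τ.character 1 = θ 1 := by
      show LinearMap.trace ℂ _ (τ 1) = LinearMap.trace ℂ _ (ρ 1)
      have h6 : τ 1 = 1 := MonoidHom.map_one τ
      have h7 : ρ 1 = 1 := MonoidHom.map_one ρ
      rw [h6, h7]
    rw [h2, h3, h4, hβ1] at h1
    have h5 := mul_right_cancel₀ hθ1 h1
    exact_mod_cast h5
  rwa [hk_e] at hdvd

end Deg

end Cfsg.Agent.H04.Cliff
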