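import Cfsg.Agent.Lib.H04.Cliff.Gamma
import Cfsg.Agent.Lib.H21.CharLinear
import Cfsg.Agent.Lib.H23.AcdTwo
import Cfsg.Agent.Lib.H06.CharExtend
import Cfsg.Prelude.Def_CharExt

/-!
# Extension criteria for invariant characters
-/

set_option autoImplicit false
set_option linter.style.haveILetI false
set_option linter.unusedSectionVars false
set_option linter.unusedSimpArgs false
set_option linter.unusedVariables false

namespace Cfsg.Agent.H04.Cliff

open Cfsg Cfsg.Agent.H21 Module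

universe u v

section Lin

variable {H : Type u} [Group H] [Finite H]

/-- A degree-one character as a homomorphism to units. -/
noncomputable def linU (f : H → ℂ) (hf : IsCharacter H f) (h1 : f 1 = 1) : H →* ℂˣ :=
  MonoidHom.toHomUnits
    ⟨⟨f, h1⟩, fun a b => linear_mul hf (by
      have := one_eq_charDegree hf
      rw [h1] at this
      exact_mod_cast this.symm) a b⟩

@[simp] theorem coe_linU (f : H → ℂ) (hf : IsCharacter H f) (h1 : f 1 = 1) (x : H) :
    (linU f hf h1 x : ℂ) = f x := rfl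

/-- Coercion of homs to functions. -/
def homFun (H : Type u) [Group H] : (H →* ℂˣ) →* (H → ℂ) where
  toFun ω := fun x => (ω x : ℂ)
  map_one' := by funext x; simp
  map_mul' a b := by funext x; simp

theorem homFun_injective : Function.Injective (homFun H) := by
  intro a b h
  ext x
  exact congrFun h x

theorem orderOf_coe (ω : H →* ℂˣ) : orderOf (fun x => (ω x : ℂ)) = orderOf ω :=
  orderOf_injective (homFun H) homFun_injective ω

end Lin

section Abs

variable {G : Type u} [Group G] [Finite G]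

/-- Prime-by-prime criterion for the extension of an invariant linear character. -/
theorem ext_linear_of_local (N : Subgroup G) [hN : N.Normal] (φ : N →* ℂˣ)
    (hinv : ∀ (g : G) (n : N), φ ⟨g * n * g⁻¹, hN.conj_mem n n.2 g⟩ = φ n)
    (hsyl : ∀ p : ℕ, p.Prime → p ∣ orderOf φ → ∃ (K : Subgroup G) (hNK : N ≤ K) (ν : K →* ℂˣ),
      Nat.Coprime K.index p ∧ ∀ n : N, ν ⟨n, hNK n.2⟩ = φ n) :
    ∃ Λ : G →* ℂˣ, ∀ n : N, Λ n = φ n := by
  refine exists_ext_of_comm N φ fun x hx => ?_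
  by_contra hne
  have h1 : orderOf (φ x) ≠ 1 := fun h => hne (orderOf_eq_one_iff.mp h)
  obtain ⟨p, hp, hpd⟩ := Nat.exists_prime_and_dvd h1
  have h2 : orderOf (φ x) ∣ orderOf φ := by
    have h3 : φ x ^ orderOf φ = 1 := DFunLike.congr_fun (pow_orderOf_eq_one φ) x
    exact orderOf_dvd_of_pow_eq_one h3
  obtain ⟨K, hNK, ν, hcop, hν⟩ := hsyl p hp (hpd.trans h2)
  have h4 := pow_index_eq_one N φ hinv K hNK ν hν x hx
  have h5 := orderOf_dvd_of_pow_eq_one h4
  have h6 : p ∣ K.index := hpd.trans h5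
  have := Nat.Coprime.eq_one_of_dvd hcop.symm h6
  exact hp.one_lt.ne' this

/-- A hom trivial on `N` has order dividing the index. -/
theorem pow_index_of_trivial (N : Subgroup G) [hN : N.Normal] (γ : G →* ℂˣ)
    (hγ : ∀ n : N, γ n = 1) : γ ^ N.index = 1 := by
  ext g
  have h1 : g ^ N.index ∈ N := Subgroup.pow_index_mem N g
  have h2 := hγ ⟨_, h1⟩
  simp only [map_pow] at h2
  simp [h2]

/-- Canonical extension: the core of S0865. -/
theorem canon_ext (N : Subgroup G) [hN : N.Normal] (φ : N →* ℂˣ)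
    (hinv : ∀ (g : G) (n : N), φ ⟨g * n * g⁻¹, hN.conj_mem n n.2 g⟩ = φ n)
    (hcop : Nat.Coprime N.index (orderOf φ)) :
    ∃ μ : G →* ℂˣ, (∀ n : N, μ n = φ n) ∧ orderOf μ = orderOf φ ∧
      ∀ μ' : G →* ℂˣ, (∀ n : N, μ' n = φ n) → Nat.Coprime N.index (orderOf μ') → μ' = μ := by
  classical
  obtain ⟨Λ, hΛ⟩ := ext_linear_of_local N φ hinv (fun p hp hpd =>
    ⟨N, le_rfl, φ, Nat.Coprime.coprime_dvd_right hpd hcop, fun n => rfl⟩)
  set m := N.index with hm
  set o := orderOf φ with ho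
  have hm0 : m ≠ 0 := Subgroup.index_ne_zero_of_finite
  have ho0 : o ≠ 0 := (orderOf_pos φ).ne'
  -- CRT
  let b := Nat.chineseRemainder hcop 0 1
  have hb1 : b ≡ 0 [MOD m] := b.2.1
  have hb2 : b ≡ 1 [MOD o] := b.2.2
  have hmb : m ∣ (b : ℕ) := (Nat.modEq_zero_iff_dvd).mp hb1
  obtain ⟨b', hb'⟩ := hmb
  have hpowφ : φ ^ (b : ℕ) = φ := by
    have := hb2
    have h1 : φ ^ (b : ℕ) = φ ^ 1 := by
      rw [← pow_mod_orderOf φ (b : ℕ), ← pow_mod_orderOf φ 1]
      congr 1
    simpa using h1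
  have hrestr : ∀ (k : ℕ) (n : N), (Λ ^ k) n = (φ ^ k) n := by
    intro k n
    simp [hΛ]
  have hκ : ∀ n : N, (Λ ^ o) n = 1 := by
    intro n
    rw [hrestr, pow_orderOf_eq_one]
    rfl
  have hΛmo : ∀ g, (Λ g) ^ (o * m) = 1 := by
    intro g
    have h : ((Λ g) ^ o) ^ m = 1 := DFunLike.congr_fun (pow_index_of_trivial N (Λ ^ o) hκ) g
    rw [pow_mul]
    exact h
  have hμn : ∀ n : N, (Λ ^ (b : ℕ)) n = φ n := by
    intro n
    rw [hrestr, hpowφ]
  have hordμ : orderOf (Λ ^ (b : ℕ)) = o := by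
    have h1 : (Λ ^ (b : ℕ)) ^ o = 1 := by
      refine MonoidHom.ext fun g => ?_
      show ((Λ g) ^ (b : ℕ)) ^ o = 1
      rw [← pow_mul, hb']
      have h9 : m * b' * o = (o * m) * b' := by ring
      rw [h9, pow_mul, hΛmo, one_pow]
    apply Nat.dvd_antisymm (orderOf_dvd_of_pow_eq_one h1)
    have h2 : φ ^ orderOf (Λ ^ (b : ℕ)) = 1 := by
      ext n
      rw [MonoidHom.pow_apply, ← hμn n, ← MonoidHom.pow_apply, pow_orderOf_eq_one]
      rfl
    exact orderOf_dvd_of_pow_eq_one h2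
  refine ⟨Λ ^ (b : ℕ), hμn, hordμ, ?_⟩
  intro μ' hμ' hcop'
  set μ := Λ ^ (b : ℕ) with hμdef
  let γ : G →* ℂˣ := μ' * μ⁻¹
  have hγN : ∀ n : N, γ n = 1 := by
    intro n
    simp only [γ, MonoidHom.mul_apply, MonoidHom.inv_apply, hμ', hμn, mul_inv_cancel]
  have h1 : γ ^ m = 1 := pow_index_of_trivial N γ hγN
  have h2 : γ ^ (orderOf μ' * orderOf μ) = 1 := by
    refine MonoidHom.ext fun g => ?_
    show (μ' g * (μ g)⁻¹) ^ (orderOf μ' * orderOf μ) = 1
    have h7 : (μ' g) ^ orderOf μ' = 1 := DFunLike.congr_fun (pow_orderOf_eq_one μ') g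
    have h8 : (μ g) ^ orderOf μ = 1 := DFunLike.congr_fun (pow_orderOf_eq_one μ) g
    rw [mul_pow, inv_pow, pow_mul (μ' g), h7, one_pow, one_mul, mul_comm, pow_mul (μ g), h8,
      one_pow, inv_one]
  have h3 : Nat.Coprime m (orderOf μ' * orderOf μ) := by
    apply Nat.Coprime.mul_right hcop'
    rw [hordμ]
    exact hcop
  have h4 : orderOf γ = 1 := by
    apply Nat.eq_one_of_dvd_coprimes h3 (orderOf_dvd_of_pow_eq_one h1)
      (orderOf_dvd_of_pow_eq_one h2)
  have h5 : γ = 1 := orderOf_eq_one_iff.mp h4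
  refine MonoidHom.ext fun g => ?_
  have h7 : μ' g * (μ g)⁻¹ = 1 := DFunLike.congr_fun h5 g
  exact mul_inv_eq_one.mp h7

/-- If the quotient is cyclic, an invariant linear character dies on commutators. -/
theorem phi_comm_of_cyclic {Γ : Type*} [Group Γ] {Q : Type*} [Group Q] [IsCyclic Q] (q : Γ →* Q)
    (hq : Function.Surjective q) (M : Subgroup Γ) [hM : M.Normal] (hqM : q.ker = M) (φ : M →* ℂˣ)
    (hinv : ∀ (g : Γ) (m : M), φ ⟨g * m * g⁻¹, hM.conj_mem m m.2 g⟩ = φ m) (x : M)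
    (hx : (x : Γ) ∈ commutator Γ) : φ x = 1 := by
  classical
  let K : Subgroup Γ := φ.ker.map M.subtype
  have hmemK : ∀ y : Γ, y ∈ K ↔ ∃ h : y ∈ M, φ ⟨y, h⟩ = 1 := by
    intro y
    constructor
    · rintro ⟨z, hz, rfl⟩
      exact ⟨z.2, hz⟩
    · rintro ⟨h, hy⟩
      exact ⟨⟨y, h⟩, hy, rfl⟩
  haveI hKn : K.Normal := by
    constructor
    intro y hy g
    obtain ⟨h, hφ⟩ := (hmemK y).1 hy
    refine (hmemK _).2 ⟨hM.conj_mem y h g, ?_⟩
    have := hinv g ⟨y, h⟩
    rw [hφ] at this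
    exact this
  have hKM : K ≤ M := by
    intro y hy
    exact ((hmemK y).1 hy).1
  have hKq : K ≤ q.ker := by rw [hqM]; exact hKM
  let f : Γ ⧸ K →* Q := QuotientGroup.lift K q hKq
  have hker : f.ker ≤ Subgroup.center (Γ ⧸ K) := by
    intro z hz
    obtain ⟨y, rfl⟩ := QuotientGroup.mk'_surjective K z
    have hyM : y ∈ M := by
      rw [← hqM]
      exact hz
    rw [Subgroup.mem_center_iff]
    intro w
    obtain ⟨g, rfl⟩ := QuotientGroup.mk'_surjective K w
    simp only [QuotientGroup.mk'_apply, ← QuotientGroup.mk_mul]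
    rw [QuotientGroup.eq]
    refine (hmemK _).2 ?_
    have h1 : (g * y)⁻¹ * (y * g) = (y⁻¹ * (g⁻¹ * y * g⁻¹⁻¹)) := by group
    rw [h1]
    have hm2 : g⁻¹ * y * g⁻¹⁻¹ ∈ M := hM.conj_mem y hyM g⁻¹
    refine ⟨M.mul_mem (M.inv_mem hyM) hm2, ?_⟩
    have h2 := hinv g⁻¹ ⟨y, hyM⟩
    have h3 : (⟨y⁻¹ * (g⁻¹ * y * g⁻¹⁻¹), M.mul_mem (M.inv_mem hyM) hm2⟩ : M) =
        (⟨y, hyM⟩ : M)⁻¹ * ⟨g⁻¹ * y * g⁻¹⁻¹, hm2⟩ := rfl
    rw [h3, map_mul, map_inv, h2, inv_mul_cancel]
  have hcomm := commutative_of_cyclic_center_quotient f hker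
  have hK : x.1 ∈ K := by
    have h1 : commutator Γ ≤ (QuotientGroup.mk' K).ker := by
      rw [commutator_def, Subgroup.commutator_le]
      intro a _ b _
      rw [MonoidHom.mem_ker, map_commutatorElement, commutatorElement_eq_one_iff_commute]
      exact hcomm _ _
    have h2 := h1 hx
    rw [QuotientGroup.ker_mk'] at h2
    exact h2
  obtain ⟨h, hφ⟩ := (hmemK _).1 hK
  exact hφ

end Abs

section RepExt

variable {N : Type*} [Group N] [Finite N] {W : Type*} [AddCommGroup W] [Module ℂ W]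
  [FiniteDimensional ℂ W] (ρ : Representation ℂ N W)

/-- A representation of `K` whose character restricts along `i` to that of `ρ` can be moved
to the space of `ρ` so as to restrict to `ρ` exactly. -/
theorem exists_rep_on_W {K : Type*} [Group K] (i : N →* K) {η : K → ℂ} (hη : IsCharacter K η)
    (h : ∀ n : N, η (i n) = ρ.character n) :
    ∃ σ : Representation ℂ K W, σ.character = η ∧ ∀ n : N, σ (i n) = ρ n := by
  classical
  obtain ⟨k, σ₀, rfl⟩ := hη
  let σ₁ : Representation ℂ N (Fin k → ℂ) := σ₀.comp i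
  have hch : σ₁.character = ρ.character := by
    funext n
    exact h n
  obtain ⟨e⟩ := Cfsg.Agent.H01.equiv_of_character_eq σ₁ ρ hch
  let E : (Fin k → ℂ) ≃ₗ[ℂ] W := e.toLinearEquiv
  refine ⟨transport σ₀ E, character_transport σ₀ E, fun n => ?_⟩
  ext w
  have h1 := Representation.IntertwiningMap.isIntertwining _ _ e.toIntertwiningMap n (E.symm w)
  have h2 : e.toIntertwiningMap (E.symm w) = w := E.apply_symm_apply w
  have h3 : e.toIntertwiningMap (σ₁ n (E.symm w)) = E (σ₁ n (E.symm w)) := rfl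
  rw [h2, h3] at h1
  exact h1

end RepExt

section Main

/-- An extension of an irreducible representation is irreducible. -/
theorem irr_of_restrict {W : Type*} [AddCommGroup W] [Module ℂ W]
    {K : Type*} [Group K] {M : Type*} [Group M] {τ : Representation ℂ K W}
    {ρ₁ : Representation ℂ M W} (hρ : ρ₁.IsIrreducible)
    (hcover : ∀ m : M, ∃ (c : ℂ) (x : K), ρ₁ m = c • τ x) : τ.IsIrreducible := by
  have hnt : Nontrivial W := by
    by_contra h
    rw [not_nontrivial_iff_subsingleton] at h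
    exact (bot_ne_top : (⊥ : Subrepresentation ρ₁) ≠ ⊤)
      (Subrepresentation.toSubmodule_injective (Subsingleton.elim _ _))
  have key : ∀ S : Subrepresentation τ, S = ⊥ ∨ S = ⊤ := by
    intro S
    let S' : Subrepresentation ρ₁ :=
      { toSubmodule := S.toSubmodule
        apply_mem_toSubmodule := by
          intro m v hv
          obtain ⟨c, x, hc⟩ := hcover m
          rw [hc]
          exact S.toSubmodule.smul_mem c (S.apply_mem_toSubmodule x hv) }
    rcases hρ.eq_bot_or_eq_top S' with h' | h'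
    · left
      apply Subrepresentation.toSubmodule_injective
      have h'' : S'.toSubmodule = (⊥ : Subrepresentation ρ₁).toSubmodule := congrArg _ h'
      exact h''
    · right
      apply Subrepresentation.toSubmodule_injective
      have h'' : S'.toSubmodule = (⊤ : Subrepresentation ρ₁).toSubmodule := congrArg _ h'
      exact h''
  have hntS : Nontrivial (Subrepresentation τ) := by
    refine ⟨⟨⊥, ⊤, ?_⟩⟩
    intro hbt
    have := congrArg Subrepresentation.toSubmodule hbt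
    exact (bot_ne_top : (⊥ : Submodule ℂ W) ≠ ⊤) this
  exact { eq_bot_or_eq_top := key }

variable {G : Type u} [Group G] [Finite G] {N : Subgroup G} [hN : N.Normal]
  {W : Type*} [AddCommGroup W] [Module ℂ W] [FiniteDimensional ℂ W] {ρ : Representation ℂ N W}

/-- `Γ → G` is onto. -/
theorem prj_surjective (hρ : ρ.IsIrreducible)
    (hinv : ∀ (g : G) (n : N), ρ.character (cj N g n) = ρ.character n) :
    Function.Surjective (prj N ρ) := by
  intro g
  obtain ⟨P, hP⟩ := exists_mem_Gam hρ hinv g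
  exact ⟨⟨(P, g), hP⟩, rfl⟩

theorem index_GamH (hρ : ρ.IsIrreducible)
    (hinv : ∀ (g : G) (n : N), ρ.character (cj N g n) = ρ.character n) (H : Subgroup G) :
    (GamH N ρ H).index = H.index :=
  Subgroup.index_comap_of_surjective H (prj_surjective hρ hinv)

/-- Extension from the vanishing of `phi` on commutators. -/
theorem extends_of_comm (hρ : ρ.IsIrreducible)
    (hinv : ∀ (g : G) (n : N), ρ.character (cj N g n) = ρ.character n)
    (h : ∀ x : GamH N ρ N, (x.1 : Gam N ρ) ∈ commutator (Gam N ρ) → phi hρ x = 1) :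
    ∃ τ : Representation ℂ G W, τ.IsIrreducible ∧ ∀ n : N, τ n = ρ n := by
  haveI := Gam_finite hρ hinv
  obtain ⟨Λ, hΛ⟩ := exists_ext_of_comm (GamH N ρ N) (phi hρ) h
  obtain ⟨τ, hτ⟩ := exists_rep_of_ext hρ hinv Λ hΛ
  exact ⟨τ, irr_of_restrict hρ (fun n => ⟨1, n, by simp [hτ]⟩), hτ⟩

/-- The character `phi` as an invariant map on the normal subgroup `N̂`. -/
theorem phi_inv (hρ : ρ.IsIrreducible) (g : Gam N ρ) (m : GamH N ρ N) :
    phi hρ ⟨g * m * g⁻¹, (GamH_normal N ρ).conj_mem m m.2 g⟩ = phi hρ m := phi_conj hρ g m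

/-- Extension prime by prime (Gallagher). -/
theorem extends_of_local (hρ : ρ.IsIrreducible)
    (hinv : ∀ (g : G) (n : N), ρ.character (cj N g n) = ρ.character n)
    (hsyl : ∀ p : ℕ, p.Prime → ∃ (P : Subgroup G) (hNP : N ≤ P) (σ : Representation ℂ P W),
      Nat.Coprime P.index p ∧ ∀ n : N, σ ⟨n, hNP n.2⟩ = ρ n) :
    ∃ τ : Representation ℂ G W, τ.IsIrreducible ∧ ∀ n : N, τ n = ρ n := by
  haveI := Gam_finite hρ hinv
  refine extends_of_comm hρ hinv fun x hx => ?_
  by_contra hne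
  have h1 : orderOf (phi hρ x) ≠ 1 := fun h => hne (orderOf_eq_one_iff.mp h)
  obtain ⟨p, hp, hpd⟩ := Nat.exists_prime_and_dvd h1
  obtain ⟨P, hNP, σ, hcop, hσ⟩ := hsyl p hp
  have hle : GamH N ρ N ≤ GamH N ρ P := fun y hy => hNP hy
  have h4 := pow_index_eq_one (GamH N ρ N) (phi hρ) (phi_inv hρ) (GamH N ρ P) hle
    (lam hρ hσ) (fun m => lam_eq_phi hρ hNP hσ m) x hx
  have h5 := orderOf_dvd_of_pow_eq_one h4
  rw [index_GamH hρ hinv] at h5
  have h6 : p ∣ P.index := hpd.trans h5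
  have := Nat.Coprime.eq_one_of_dvd hcop.symm h6
  exact hp.one_lt.ne' this

/-- The determinant relation for `phi`. -/
theorem phi_pow_det (hρ : ρ.IsIrreducible) (x : GamH N ρ N) :
    (phi hρ x : ℂ) ^ finrank ℂ W * LinearMap.det (ρ ⟨x.1.1.2, x.2⟩) = 1 := by
  have h1 := phi_spec hρ x
  have h2 : LinearMap.det ((x.1.1.1 : Module.End ℂ W)) = 1 := x.1.2.1
  rw [h1, LinearMap.det_smul] at h2
  exact h2

/-- Extension when the determinant extends and degree is coprime to the index. -/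
theorem extends_of_det (hρ : ρ.IsIrreducible)
    (hinv : ∀ (g : G) (n : N), ρ.character (cj N g n) = ρ.character n)
    (μ : G →* ℂˣ) (hμ : ∀ n : N, (μ n : ℂ) = LinearMap.det (ρ n))
    (hcop : Nat.Coprime N.index (finrank ℂ W)) :
    ∃ τ : Representation ℂ G W, τ.IsIrreducible ∧ ∀ n : N, τ n = ρ n := by
  haveI := Gam_finite hρ hinv
  refine extends_of_comm hρ hinv fun x hx => ?_
  have h1 := phi_pow_det hρ x
  rw [← hμ] at h1
  have h2 : μ (prj N ρ x.1) = 1 := map_commutator_eq_one (μ.comp (prj N ρ)) hx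
  have h3 : (μ ((⟨x.1.1.2, x.2⟩ : N) : G) : ℂ) = 1 := by
    have : (((⟨x.1.1.2, x.2⟩ : N) : G)) = prj N ρ x.1 := rfl
    rw [this, h2]
    rfl
  rw [h3, mul_one] at h1
  have h4 : phi hρ x ^ finrank ℂ W = 1 := by
    apply Units.ext
    simpa using h1
  have h5 : phi hρ x ^ N.index = 1 := by
    have := pow_index_eq_one (GamH N ρ N) (phi hρ) (phi_inv hρ) (GamH N ρ N) le_rfl
      (phi hρ) (fun m => rfl) x hx
    rwa [index_GamH hρ hinv] at this
  have h6 : orderOf (phi hρ x) = 1 :=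
    Nat.eq_one_of_dvd_coprimes hcop (orderOf_dvd_of_pow_eq_one h5) (orderOf_dvd_of_pow_eq_one h4)
  exact orderOf_eq_one_iff.mp h6

/-- Extension for cyclic quotients. -/
theorem extends_of_cyclic (hρ : ρ.IsIrreducible)
    (hinv : ∀ (g : G) (n : N), ρ.character (cj N g n) = ρ.character n)
    (hcyc : IsCyclic (G ⧸ N)) :
    ∃ τ : Representation ℂ G W, τ.IsIrreducible ∧ ∀ n : N, τ n = ρ n := by
  refine extends_of_comm hρ hinv fun x hx => ?_
  refine phi_comm_of_cyclic ((QuotientGroup.mk' N).comp (prj N ρ)) ?_ (GamH N ρ N) ?_ (phi hρ)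
    (phi_inv hρ) x hx
  · exact (QuotientGroup.mk'_surjective N).comp (prj_surjective hρ hinv)
  · ext y
    simp only [MonoidHom.mem_ker, MonoidHom.coe_comp, Function.comp_apply,
      QuotientGroup.mk'_apply, QuotientGroup.eq_one_iff]
    rfl

/-- The invariance hypothesis from the invariance of the character. -/
theorem inv_of_char {ϑ : N → ℂ} (hρϑ : ρ.character = ϑ)
    (hinv : ∀ (g : G) (n : N), ϑ ⟨g * n * g⁻¹, hN.conj_mem (n : G) n.2 g⟩ = ϑ n) :
    ∀ (g : G) (n : N), ρ.character (cj N g n) = ρ.character n := by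
  intro g n
  rw [hρϑ]
  exact hinv g n

/-- Two extensions of `ρ` differ by a hom trivial on `N`. -/
theorem ext_rep_ratio (hρ : ρ.IsIrreducible) (τ τ' : Representation ℂ G W)
    (hτ : ∀ n : N, τ n = ρ n) (hτ' : ∀ n : N, τ' n = ρ n) :
    ∃ γ : G →* ℂˣ, (∀ n : N, γ n = 1) ∧ ∀ g, τ' g = (γ g : ℂ) • τ g := by
  classical
  haveI := nontrivial_of_irr hρ
  have hex : ∀ g : G, ∃ c : ℂˣ, τ' g = (c : ℂ) • τ g := by
    intro g
    have hcomm : ∀ n : N, τ g⁻¹ * τ' g * ρ n = ρ n * (τ g⁻¹ * τ' g) := by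
      intro n
      have h1 : τ' g * τ' n = τ' (g * n * g⁻¹) * τ' g := by
        rw [← map_mul, ← map_mul]; congr 1; group
      have h2 : τ g⁻¹ * τ (g * n * g⁻¹) = τ n * τ g⁻¹ := by
        rw [← map_mul, ← map_mul]; congr 1; group
      have h3 : τ' (g * n * g⁻¹) = τ (g * n * g⁻¹) := by
        have := (hτ' (cj N g n)).trans (hτ (cj N g n)).symm
        exact this
      calc τ g⁻¹ * τ' g * ρ n = τ g⁻¹ * (τ' g * τ' n) := by rw [hτ' n, mul_assoc]
        _ = τ g⁻¹ * τ (g * n * g⁻¹) * τ' g := by rw [h1, h3]; simp only [mul_assoc]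
        _ = ρ n * (τ g⁻¹ * τ' g) := by rw [h2, hτ n, mul_assoc]
    obtain ⟨c, hc⟩ := scalar_of_comm hρ _ hcomm
    have h3 : τ' g = c • τ g := by
      have h4 : τ g * τ g⁻¹ = 1 := by rw [← map_mul]; simp
      calc τ' g = (τ g * τ g⁻¹) * τ' g := by rw [h4, one_mul]
        _ = τ g * (τ g⁻¹ * τ' g) := by rw [mul_assoc]
        _ = c • τ g := by rw [hc]; simp [mul_smul_comm]
    have hc0 : c ≠ 0 := by
      rintro rfl
      rw [zero_smul] at h3
      have h5 : τ' g * τ' g⁻¹ = 1 := by rw [← map_mul]; simp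
      rw [h3, zero_mul] at h5
      exact zero_ne_one h5
    exact ⟨Units.mk0 c hc0, by simpa using h3⟩
  choose γ hγ using hex
  have hmul : ∀ a b, γ (a * b) = γ a * γ b := by
    intro a b
    apply Units.ext
    have h1 : τ' (a * b) = τ' a * τ' b := map_mul _ _ _
    rw [hγ (a * b), hγ a, hγ b, map_mul, smul_mul_smul_comm] at h1
    exact smul_cancel (⟨⟨τ a * τ b, τ b⁻¹ * τ a⁻¹, by
      rw [← map_mul, ← map_mul, ← map_mul]; simp, by
      rw [← map_mul, ← map_mul, ← map_mul]; simp⟩, rfl⟩) h1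
  refine ⟨MonoidHom.mk' γ hmul, fun n => ?_, hγ⟩
  apply Units.ext
  have h1 := hγ n
  rw [hτ' n, hτ n] at h1
  have h2 : (1 : ℂ) • ρ n = ((γ n : ℂˣ) : ℂ) • ρ n := by rw [one_smul]; exact h1
  exact (smul_cancel ⟨⟨ρ n, ρ n⁻¹, by rw [← map_mul]; simp, by rw [← map_mul]; simp⟩, rfl⟩ h2).symm

end Main

end Cfsg.Agent.H04.Cliff
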