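import Cfsg.Agent.Lib.H04.Cliff.Basic
import Cfsg.Agent.Lib.H06.Brauer1
import Cfsg.Agent.Lib.H23.ProdIrr
import Cfsg.Agent.Lib.H23.RealOver
import Cfsg.Agent.Lib.H06.CharGallagher

/-!
# Gallagher's theorem in the general form
-/

set_option autoImplicit false
set_option linter.style.haveILetI false
set_option linter.unusedSectionVars false
set_option linter.unusedSimpArgs false
set_option linter.unusedVariables false

namespace Cfsg.Agent.H04.Cliff

open Cfsg Cfsg.Agent.H21 Cfsg.Agent.H06 Module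
open scoped ComplexConjugate

universe u

section Gall

variable {G : Type u} [Group G] [Fintype G] (N : Subgroup G) [hN : N.Normal]

theorem norm_ind_inv [Fintype N] {θ : N → ℂ} (hθ : IsIrrCharacter N θ)
    (hinv : ∀ t : G, twist N θ t = θ) :
    classInner (indFun N θ) (indFun N θ) = (N.index : ℂ) := by
  rw [frobenius_reciprocity N θ _ (indFun_isClass N θ)]
  have : (fun h : N => indFun N θ h) = (N.index : ℂ) • θ := by
    funext h
    exact indFun_of_invariant N hinv h
  rw [this, classInner_smul_right, classInner_irr_self hθ]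
  simp

/-- The numerical heart of Gallagher's theorem. -/
theorem gallagher_data [Fintype N] [Fintype (IrrCharacter G)] {φ ϑ : N → ℂ}
    (hφ : IsIrrCharacter N φ) (hprod : IsIrrCharacter N (φ * ϑ))
    (hφinv : ∀ t : G, twist N φ t = φ) (hϑinv : ∀ t : G, twist N ϑ t = ϑ)
    {χ : G → ℂ} (hχ : IsCharacter G χ) (hext : ∀ n : N, χ n = ϑ n) :
    ∃ a : IrrCharacter G → ℕ, (∀ β : IrrCharacter G, classInner (indFun N φ) (β : G → ℂ) = a β) ∧
      (∀ β : IrrCharacter G, a β ≠ 0 → IsIrrCharacter G ((β : G → ℂ) * χ)) ∧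
      (∀ β γ : IrrCharacter G, a β ≠ 0 → a γ ≠ 0 → β ≠ γ →
        classInner ((β : G → ℂ) * χ) ((γ : G → ℂ) * χ) = 0) ∧
      indFun N (φ * ϑ) = ∑ β : IrrCharacter G, (a β : ℂ) • ((β : G → ℂ) * χ) := by
  classical
  set X := indFun N φ with hXdef
  have hXc : IsCharacter G X := isCharacter_indFun N (isCharacter_of_irr hφ)
  obtain ⟨a, ha, hXX⟩ := classInner_self_char_eq_sum hXc
  have hXexp : X = ∑ β : IrrCharacter G, (a β : ℂ) • (β : G → ℂ) := by
    conv_lhs => rw [classFunction_expansion X (isClassFunction_of_isCharacter hXc)]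
    simp only [ha]
  have hχcl := isClassFunction_of_isCharacter hχ
  have hY : indFun N (φ * ϑ) = X * χ := by
    have h1 := Brauer.mul_indFun hχcl N φ
    rw [mul_comm, ← hXdef] at h1
    rw [h1]
    congr 1
    funext e
    simp [hext, mul_comm]
  have hYexp : indFun N (φ * ϑ) = ∑ β : IrrCharacter G, (a β : ℂ) • ((β : G → ℂ) * χ) := by
    rw [hY, hXexp, Finset.sum_mul]
    refine Finset.sum_congr rfl fun β _ => ?_
    rw [smul_mul_assoc]
  -- the matrix `c`
  have hc : ∀ β γ : IrrCharacter G, ∃ m : ℕ,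
      classInner ((β : G → ℂ) * χ) ((γ : G → ℂ) * χ) = m := fun β γ =>
    classInner_isCharacter_nat (isCharacter_mul (isCharacter_of_irr β.2) hχ)
      (isCharacter_mul (isCharacter_of_irr γ.2) hχ)
  choose c hc using hc
  have hϑ1 : ϑ 1 ≠ 0 := by
    intro h
    have h1 := irr_one_ne_zero' hprod
    simp [h] at h1
  have hχ1 : χ 1 ≠ 0 := by
    have := hext 1
    simp only [OneMemClass.coe_one] at this
    rw [this]
    exact hϑ1
  have hcpos : ∀ β : IrrCharacter G, c β β ≠ 0 := by
    intro β h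
    have h1 := H23.classInner_self_ne (γ := (β : G → ℂ) * χ)
      (mul_ne_zero (irr_one_ne_zero' β.2) hχ1)
    rw [hc, h] at h1
    simp at h1
  -- invariance of the product
  have hprodinv : ∀ t : G, twist N (φ * ϑ) t = φ * ϑ := by
    intro t
    funext n
    have h1 := congrFun (hφinv t) n
    have h2 := congrFun (hϑinv t) n
    simp only [twist, Pi.mul_apply] at h1 h2 ⊢
    rw [h1, h2]
  have hYY := norm_ind_inv N hprod hprodinv
  have hXX2 := norm_ind_inv N hφ hφinv
  rw [← hXdef, hXX] at hXX2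
  have hsum1 : ∑ β : IrrCharacter G, a β * a β = N.index := by exact_mod_cast hXX2
  have hsum2 : ∑ β : IrrCharacter G, ∑ γ : IrrCharacter G, a β * a γ * c β γ = N.index := by
    rw [hYexp, classInner_sum_left] at hYY
    have : ∀ β : IrrCharacter G, classInner ((a β : ℂ) • ((β : G → ℂ) * χ))
        (∑ γ : IrrCharacter G, (a γ : ℂ) • ((γ : G → ℂ) * χ)) =
        ∑ γ : IrrCharacter G, ((a β * a γ * c β γ : ℕ) : ℂ) := by
      intro β
      rw [classInner_sum_right]
      refine Finset.sum_congr rfl fun γ _ => ?_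
      rw [classInner_smul_left, classInner_smul_right, hc]
      simp
      ring
    simp only [this] at hYY
    exact_mod_cast hYY
  -- comparison
  let f : IrrCharacter G × IrrCharacter G → ℕ := fun p => a p.1 * a p.2 * c p.1 p.2
  let g : IrrCharacter G × IrrCharacter G → ℕ := fun p => if p.1 = p.2 then a p.1 * a p.1 else 0
  have hle : ∀ p ∈ (Finset.univ : Finset (IrrCharacter G × IrrCharacter G)), g p ≤ f p := by
    rintro ⟨β, γ⟩ -
    simp only [g, f]
    split_ifs with h
    · subst h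
      exact Nat.le_mul_of_pos_right _ (Nat.pos_of_ne_zero (hcpos β))
    · exact Nat.zero_le _
  have hfs : ∑ p, f p = N.index := by
    rw [← hsum2, ← Finset.univ_product_univ, Finset.sum_product]
  have hgs : ∑ p, g p = N.index := by
    rw [← hsum1, ← Finset.univ_product_univ, Finset.sum_product]
    refine Finset.sum_congr rfl fun β _ => ?_
    simp [g]
  have heq := (Finset.sum_eq_sum_iff_of_le hle).1 (hgs.trans hfs.symm)
  have hdiag : ∀ β : IrrCharacter G, a β ≠ 0 → c β β = 1 := by
    intro β hβ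
    have h1 := heq (β, β) (Finset.mem_univ _)
    simp only [g, f, if_true] at h1
    have h2 : a β * a β ≠ 0 := mul_ne_zero hβ hβ
    have h3 : a β * a β * 1 = a β * a β * c β β := by simpa using h1
    exact (Nat.eq_of_mul_eq_mul_left (Nat.pos_of_ne_zero h2) h3).symm
  have hoff : ∀ β γ : IrrCharacter G, a β ≠ 0 → a γ ≠ 0 → β ≠ γ → c β γ = 0 := by
    intro β γ hβ hγ hne
    have h1 := heq (β, γ) (Finset.mem_univ _)
    simp only [g, f, if_neg hne] at h1
    have h2 : a β * a γ ≠ 0 := mul_ne_zero hβ hγ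
    exact (Nat.mul_eq_zero.mp h1.symm).resolve_left h2
  refine ⟨a, ha, fun β hβ => ?_, fun β γ hβ hγ hne => ?_, hYexp⟩
  · refine isIrrCharacter_of_inner_self_eq_one (isCharacter_mul (isCharacter_of_irr β.2) hχ) ?_
    rw [hc, hdiag β hβ]
    simp
  · rw [hc, hoff β γ hβ hγ hne]
    simp

end Gall

end Cfsg.Agent.H04.Cliff

namespace Cfsg.Agent.H04.Cliff

open Cfsg Cfsg.Agent.H21 Cfsg.Agent.H06 Module
open scoped ComplexConjugate

universe u

section Bij

variable {G : Type u} [Group G] [Fintype G] (N : Subgroup G) [hN : N.Normal]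

theorem twist_of_inv {φ : N → ℂ}
    (h : ∀ (g : G) (n : N), φ ⟨g * n * g⁻¹, hN.conj_mem (n : G) n.2 g⟩ = φ n) (t : G) :
    twist N φ t = φ := by
  funext n
  exact h t n

/-- **Gallagher**, general form. -/
theorem gallagher_bij {φ ϑ : N → ℂ} (hφ : IsIrrCharacter N φ) (hprod : IsIrrCharacter N (φ * ϑ))
    (hφinv : ∀ t : G, twist N φ t = φ) (hϑinv : ∀ t : G, twist N ϑ t = ϑ)
    {χ : G → ℂ} (hχ : IsCharacter G χ) (hext : ∀ n : N, χ n = ϑ n) :
    Set.BijOn (fun β : G → ℂ => β * χ)
      {β : G → ℂ | IsIrrCharacter G β ∧ classInner (indFun N φ) β ≠ 0}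
      {ψ : G → ℂ | IsIrrCharacter G ψ ∧ classInner (indFun N (φ * ϑ)) ψ ≠ 0} := by
  classical
  haveI : Fintype N := Fintype.ofFinite _
  haveI : Fintype (IrrCharacter G) := Fintype.ofFinite _
  obtain ⟨a, ha, hirr, hoff, hY⟩ := gallagher_data N hφ hprod hφinv hϑinv hχ hext
  refine ⟨?_, ?_, ?_⟩
  · rintro β ⟨hβ, hβc⟩
    have hβa : a ⟨β, hβ⟩ ≠ 0 := by
      intro h
      apply hβc
      have := ha ⟨β, hβ⟩
      rw [h] at this
      simpa using this
    have hi := hirr ⟨β, hβ⟩ hβa
    refine ⟨hi, ?_⟩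
    rw [hY, classInner_sum_left]
    rw [Finset.sum_eq_single (⟨β, hβ⟩ : IrrCharacter G)]
    · rw [classInner_smul_left]
      apply mul_ne_zero
      · exact_mod_cast hβa
      · simp only
        rw [classInner_irr_self hi]
        exact one_ne_zero
    · intro γ _ hγ
      by_cases hγa : a γ = 0
      · rw [hγa, Nat.cast_zero, classInner_smul_left, zero_mul]
      · rw [classInner_smul_left, hoff γ ⟨β, hβ⟩ hγa hβa hγ, mul_zero]
    · intro h
      exact absurd (Finset.mem_univ _) h
  · rintro β ⟨hβ, hβc⟩ β' ⟨hβ', hβc'⟩ h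
    simp only at h
    by_contra hne
    have hβa : a ⟨β, hβ⟩ ≠ 0 := by
      intro h0
      apply hβc
      have := ha ⟨β, hβ⟩
      rw [h0] at this
      simpa using this
    have hβa' : a ⟨β', hβ'⟩ ≠ 0 := by
      intro h0
      apply hβc'
      have := ha ⟨β', hβ'⟩
      rw [h0] at this
      simpa using this
    have h1 := hoff ⟨β, hβ⟩ ⟨β', hβ'⟩ hβa hβa' (fun h2 => hne (congrArg Subtype.val h2))
    simp only at h1
    rw [← h, classInner_irr_self (hirr ⟨β, hβ⟩ hβa)] at h1
    exact one_ne_zero h1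
  · rintro ψ ⟨hψ, hψc⟩
    rw [hY, classInner_sum_left] at hψc
    obtain ⟨β, -, hβ⟩ := Finset.exists_ne_zero_of_sum_ne_zero hψc
    rw [classInner_smul_left] at hβ
    have h1 : a β ≠ 0 := by
      intro h
      apply hβ
      rw [h]
      simp
    have h2 := right_ne_zero_of_mul hβ
    have h3 : (β : G → ℂ) * χ = ψ := by
      by_contra hne
      exact h2 (classInner_irr_ne (hirr β h1) hψ hne)
    refine ⟨β, ⟨β.2, ?_⟩, h3⟩
    rw [ha β]
    exact_mod_cast h1

end Bij

end Cfsg.Agent.H04.Cliff
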