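import Cfsg.Agent.Lib.H04.Cliff.Transfer
import Cfsg.Agent.Lib.H01.CharEquiv
import Cfsg.Agent.Lib.H21.CharInd

/-!
# The finite group `Γ` of determinant-one intertwiners of an invariant irreducible representation

For `ρ` an irreducible representation of a normal subgroup `N` of `G` with `G`-invariant
character, `Γ` consists of the pairs `(P, g)` with `det P = 1` and `P ρ(n) P⁻¹ = ρ(g n g⁻¹)`.
It is a finite central extension of `G`, and `ρ` extends to a subgroup `H ≥ N` exactly when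
the tautological linear character of `N̂` extends to `Ĥ`.
-/

set_option autoImplicit false
set_option linter.style.haveILetI false
set_option linter.unusedSectionVars false
set_option linter.unusedSimpArgs false
set_option linter.unusedVariables false

namespace Cfsg.Agent.H04.Cliff

open Cfsg Cfsg.Agent.H21 Module

universe u v

section Gamma

variable {G : Type u} [Group G] (N : Subgroup G) [hN : N.Normal]
  {W : Type v} [AddCommGroup W] [Module ℂ W] (ρ : Representation ℂ N W)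

/-- Conjugation on the normal subgroup. -/
def cj (g : G) (n : N) : N := ⟨g * n * g⁻¹, hN.conj_mem n n.2 g⟩

@[simp] theorem coe_cj (g : G) (n : N) : (cj N g n : G) = g * n * g⁻¹ := rfl

theorem cj_mul (g h : G) (n : N) : cj N (g * h) n = cj N g (cj N h n) := by
  apply Subtype.ext; simp [cj]; group

theorem cj_one (n : N) : cj N 1 n = n := by
  apply Subtype.ext; simp [cj]

theorem cj_inv_cj (g : G) (n : N) : cj N g⁻¹ (cj N g n) = n := by
  rw [← cj_mul, inv_mul_cancel, cj_one]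

theorem cj_cj_inv (g : G) (n : N) : cj N g (cj N g⁻¹ n) = n := by
  rw [← cj_mul, mul_inv_cancel, cj_one]

theorem cj_map_mul (g : G) (m n : N) : cj N g (m * n) = cj N g m * cj N g n := by
  apply Subtype.ext; simp [cj, mul_assoc]

/-- The group of pairs `(P, g)`. -/
def Gam [FiniteDimensional ℂ W] : Subgroup ((Module.End ℂ W)ˣ × G) where
  carrier := {x | LinearMap.det ((x.1 : Module.End ℂ W)) = 1 ∧
    ∀ n : N, (x.1 : Module.End ℂ W) * ρ n = ρ (cj N x.2 n) * (x.1 : Module.End ℂ W)}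
  mul_mem' := by
    rintro ⟨P, g⟩ ⟨Q, h⟩ ⟨hP, hP'⟩ ⟨hQ, hQ'⟩
    refine ⟨?_, fun n => ?_⟩
    · simp only [Prod.fst_mul, Units.val_mul]
      rw [map_mul]
      simp only at hP hQ
      rw [hP, hQ, one_mul]
    · simp only [Prod.fst_mul, Units.val_mul, Prod.snd_mul] at *
      rw [cj_mul, mul_assoc, hQ', ← mul_assoc, hP', mul_assoc]
  one_mem' := by
    refine ⟨by simp, fun n => ?_⟩
    simp [cj_one]
  inv_mem' := by
    rintro ⟨P, g⟩ ⟨hP, hP'⟩
    refine ⟨?_, fun n => ?_⟩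
    · simp only [Prod.fst_inv]
      have h1 : LinearMap.det (((P⁻¹ : (Module.End ℂ W)ˣ) : Module.End ℂ W)) *
          LinearMap.det ((P : Module.End ℂ W)) = 1 := by
        rw [← map_mul]; simp
      simp only at hP
      rwa [hP, mul_one] at h1
    · simp only [Prod.fst_inv, Prod.snd_inv] at *
      have h2 := hP' (cj N g⁻¹ n)
      rw [cj_cj_inv] at h2
      calc ((P⁻¹ : (Module.End ℂ W)ˣ) : Module.End ℂ W) * ρ n
          = ((P⁻¹ : (Module.End ℂ W)ˣ) : Module.End ℂ W) * (ρ n * (P : Module.End ℂ W)) *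
              ((P⁻¹ : (Module.End ℂ W)ˣ) : Module.End ℂ W) := by
            simp [mul_assoc]
        _ = ((P⁻¹ : (Module.End ℂ W)ˣ) : Module.End ℂ W) * ((P : Module.End ℂ W) * ρ (cj N g⁻¹ n)) *
              ((P⁻¹ : (Module.End ℂ W)ˣ) : Module.End ℂ W) := by rw [h2]
        _ = ρ (cj N g⁻¹ n) * ((P⁻¹ : (Module.End ℂ W)ˣ) : Module.End ℂ W) := by
            simp [← mul_assoc]

variable [FiniteDimensional ℂ W]

theorem mem_Gam {x : (Module.End ℂ W)ˣ × G} : x ∈ Gam N ρ ↔
    LinearMap.det ((x.1 : Module.End ℂ W)) = 1 ∧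
    ∀ n : N, (x.1 : Module.End ℂ W) * ρ n = ρ (cj N x.2 n) * (x.1 : Module.End ℂ W) := Iff.rfl

/-- The projection to `G`. -/
def prj : Gam N ρ →* G := (MonoidHom.snd _ _).comp (Gam N ρ).subtype

@[simp] theorem prj_apply (x : Gam N ρ) : prj N ρ x = x.1.2 := rfl

/-- The tautological representation of `Γ` on `W`. -/
def tau : Representation ℂ (Gam N ρ) W :=
  ((Units.coeHom (Module.End ℂ W)).comp (MonoidHom.fst _ _)).comp (Gam N ρ).subtype

@[simp] theorem tau_apply (x : Gam N ρ) : tau N ρ x = (x.1.1 : Module.End ℂ W) := rfl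

variable {N ρ}

/-- Schur: an endomorphism commuting with the image of `ρ` is scalar. -/
theorem scalar_of_comm [Finite N] (hρ : ρ.IsIrreducible) (T : Module.End ℂ W)
    (hT : ∀ n : N, T * ρ n = ρ n * T) : ∃ c : ℂ, T = c • (1 : Module.End ℂ W) := by
  refine schur_scalar ρ hρ T fun n => ?_
  exact hT n

/-- `W` is non-trivial for an irreducible representation. -/
theorem nontrivial_of_irr (hρ : ρ.IsIrreducible) : Nontrivial W := by
  by_contra h
  rw [not_nontrivial_iff_subsingleton] at h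
  have h1 : (⊥ : Subrepresentation ρ) ≠ ⊤ := bot_ne_top
  apply h1
  apply Subrepresentation.toSubmodule_injective
  exact Subsingleton.elim _ _

theorem finrank_pos_of_irr (hρ : ρ.IsIrreducible) : 0 < finrank ℂ W := by
  haveI := nontrivial_of_irr hρ
  exact finrank_pos

/-- The scalar unit. -/
noncomputable def scU (c : ℂˣ) : (Module.End ℂ W)ˣ :=
  Units.map (algebraMap ℂ (Module.End ℂ W)).toMonoidHom c

@[simp] theorem coe_scU (c : ℂˣ) : ((scU c : (Module.End ℂ W)ˣ) : Module.End ℂ W) =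
    (c : ℂ) • (1 : Module.End ℂ W) := by
  simp [scU, Algebra.algebraMap_eq_smul_one]

theorem scU_mul (c d : ℂˣ) : (scU (c * d) : (Module.End ℂ W)ˣ) = scU c * scU d := by
  simp [scU]

/-- Determinant-one scaling lies in `Γ`. -/
theorem scU_mem {c : ℂˣ} (hc : (c : ℂ) ^ finrank ℂ W = 1) : (scU c, (1 : G)) ∈ Gam N ρ := by
  refine ⟨?_, fun n => ?_⟩
  · simp only [coe_scU]
    rw [LinearMap.det_smul, hc]
    simp
  · simp only [coe_scU, cj_one]
    simp [smul_mul_assoc, mul_smul_comm]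

/-- Uniqueness of a scalar in front of an invertible operator. -/
theorem smul_cancel [Nontrivial W] {c d : ℂ} {A : Module.End ℂ W} (hA : IsUnit A)
    (h : c • A = d • A) : c = d := by
  obtain ⟨u, rfl⟩ := hA
  have h2 : (c - d) • (u : Module.End ℂ W) = 0 := by rw [sub_smul, h, sub_self]
  have h3 : (c - d) • (1 : Module.End ℂ W) = 0 := by
    have := congrArg (fun T => T * ((u⁻¹ : (Module.End ℂ W)ˣ) : Module.End ℂ W)) h2
    simpa [smul_mul_assoc] using this
  obtain ⟨w, hw⟩ := exists_ne (0 : W)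
  have h4 := congrArg (fun T : Module.End ℂ W => T w) h3
  simp only [LinearMap.smul_apply, Module.End.one_apply, LinearMap.zero_apply] at h4
  have := (smul_eq_zero.mp h4).resolve_right hw
  exact sub_eq_zero.mp this

/-- Same character implies conjugate by a determinant-one map. -/
theorem exists_mem_Gam [Finite N] (hρ : ρ.IsIrreducible)
    (hinv : ∀ (g : G) (n : N), ρ.character (cj N g n) = ρ.character n) (g : G) :
    ∃ P : (Module.End ℂ W)ˣ, (P, g) ∈ Gam N ρ := by
  classical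
  -- the conjugate representation
  let σ : Representation ℂ N W := ρ.comp
    (MulAut.conjNormal g : MulAut N).toMonoidHom
  have hσ : ∀ n : N, σ n = ρ (cj N g n) := fun n => by
    show ρ ((MulAut.conjNormal g : MulAut N) n) = _
    congr 1
  have hch : ρ.character = σ.character := by
    funext n
    show LinearMap.trace ℂ W (ρ n) = LinearMap.trace ℂ W (σ n)
    rw [hσ]
    exact (hinv g n).symm
  obtain ⟨e⟩ := Cfsg.Agent.H01.equiv_of_character_eq ρ σ hch
  -- the linear map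
  let E : W ≃ₗ[ℂ] W := e.toLinearEquiv
  have hE : ∀ n : N, (E : Module.End ℂ W) * ρ n = ρ (cj N g n) * (E : Module.End ℂ W) := by
    intro n
    ext w
    have := Representation.IntertwiningMap.isIntertwining _ _ e.toIntertwiningMap n w
    rw [← hσ]
    exact this
  let U : (Module.End ℂ W)ˣ := LinearMap.GeneralLinearGroup.ofLinearEquiv E
  have hU : (U : Module.End ℂ W) = E := rfl
  have hd0 : LinearMap.det (U : Module.End ℂ W) ≠ 0 := by
    rw [hU, ← LinearEquiv.coe_det]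
    exact Units.ne_zero _
  have hd : finrank ℂ W ≠ 0 := (finrank_pos_of_irr hρ).ne'
  obtain ⟨c, hc⟩ := IsAlgClosed.exists_pow_nat_eq ((LinearMap.det (U : Module.End ℂ W))⁻¹)
    (Nat.pos_of_ne_zero hd)
  have hc0 : c ≠ 0 := by
    rintro rfl
    rw [zero_pow hd] at hc
    exact (inv_ne_zero hd0) hc.symm
  refine ⟨scU (Units.mk0 c hc0) * U, ?_, fun n => ?_⟩
  · simp only [Units.val_mul, coe_scU, Units.val_mk0, smul_mul_assoc, one_mul]
    rw [LinearMap.det_smul, hc]
    exact inv_mul_cancel₀ hd0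
  · simp only [Units.val_mul, coe_scU, Units.val_mk0, smul_mul_assoc, one_mul, mul_smul_comm]
    rw [hU, hE n]

/-- Two elements of `Γ` over the same `g` differ by a root of unity. -/
theorem exists_scalar_same [Finite N] (hρ : ρ.IsIrreducible) {P Q : (Module.End ℂ W)ˣ} {g : G}
    (hP : (P, g) ∈ Gam N ρ) (hQ : (Q, g) ∈ Gam N ρ) :
    ∃ c : ℂˣ, P = scU c * Q ∧ (c : ℂ) ^ finrank ℂ W = 1 := by
  haveI := nontrivial_of_irr hρ
  have hcomm : ∀ n : N, ((P * Q⁻¹ : (Module.End ℂ W)ˣ) : Module.End ℂ W) * ρ n =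
      ρ n * ((P * Q⁻¹ : (Module.End ℂ W)ˣ) : Module.End ℂ W) := by
    intro n
    have h1 : (P : Module.End ℂ W) * ρ (cj N g⁻¹ n) = ρ n * (P : Module.End ℂ W) := by
      have := hP.2 (cj N g⁻¹ n)
      simp only at this
      rwa [cj_cj_inv] at this
    have h2 : ((Q⁻¹ : (Module.End ℂ W)ˣ) : Module.End ℂ W) * ρ n =
        ρ (cj N g⁻¹ n) * ((Q⁻¹ : (Module.End ℂ W)ˣ) : Module.End ℂ W) :=
      ((Gam N ρ).inv_mem hQ).2 n
    calc ((P * Q⁻¹ : (Module.End ℂ W)ˣ) : Module.End ℂ W) * ρ n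
        = (P : Module.End ℂ W) * (((Q⁻¹ : (Module.End ℂ W)ˣ) : Module.End ℂ W) * ρ n) := by
          simp [mul_assoc]
      _ = ((P : Module.End ℂ W) * ρ (cj N g⁻¹ n)) * ((Q⁻¹ : (Module.End ℂ W)ˣ) : Module.End ℂ W) := by
          rw [h2, mul_assoc]
      _ = ρ n * ((P * Q⁻¹ : (Module.End ℂ W)ˣ) : Module.End ℂ W) := by
          rw [h1]; simp [mul_assoc]
  obtain ⟨c, hc⟩ := scalar_of_comm hρ _ hcomm
  have hc0 : c ≠ 0 := by
    rintro rfl
    rw [zero_smul] at hc
    exact (P * Q⁻¹).ne_zero hc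
  have hPQ : P = scU (Units.mk0 c hc0) * Q := by
    apply Units.ext
    simp only [Units.val_mul, coe_scU, Units.val_mk0, smul_mul_assoc, one_mul]
    calc (P : Module.End ℂ W) = ((P * Q⁻¹ : (Module.End ℂ W)ˣ) : Module.End ℂ W) * (Q : Module.End ℂ W) := by
          simp
      _ = c • (Q : Module.End ℂ W) := by rw [hc]; simp [smul_mul_assoc]
  refine ⟨Units.mk0 c hc0, hPQ, ?_⟩
  have h5 := hP.1
  rw [hPQ] at h5
  simp only [Units.val_mul, coe_scU, Units.val_mk0, smul_mul_assoc, one_mul] at h5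
  rw [LinearMap.det_smul] at h5
  have h6 : LinearMap.det (Q : Module.End ℂ W) = 1 := hQ.1
  rw [h6, mul_one] at h5
  simpa using h5

/-- `Γ` is finite. -/
theorem Gam_finite [Finite G] (hρ' : ρ.IsIrreducible)
    (hinv : ∀ (g : G) (n : N), ρ.character (cj N g n) = ρ.character n) :
    Finite (Gam N ρ) := by
  classical
  have hd : 0 < finrank ℂ W := finrank_pos_of_irr hρ'
  choose s hs using exists_mem_Gam hρ' hinv
  have hsc : ∀ x : Gam N ρ, ∃ c : ℂˣ, x.1.1 = scU c * s x.1.2 ∧ (c : ℂ) ^ finrank ℂ W = 1 := by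
    intro x
    exact exists_scalar_same hρ' (P := x.1.1) (g := x.1.2) x.2 (hs x.1.2)
  choose c hc hc' using hsc
  have hfin : Finite {z : ℂ // z ^ finrank ℂ W = 1} := by
    have : ({z : ℂ | z ^ finrank ℂ W = 1}).Finite := by
      refine (Polynomial.nthRootsFinset (finrank ℂ W) (1 : ℂ)).finite_toSet.subset ?_
      intro z hz
      simpa [Polynomial.mem_nthRootsFinset hd] using hz
    exact this
  refine Finite.of_injective
    (fun x : Gam N ρ => (x.1.2, (⟨(c x : ℂ), hc' x⟩ : {z : ℂ // z ^ finrank ℂ W = 1}))) ?_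
  intro x y hxy
  simp only [Prod.mk.injEq, Subtype.mk.injEq] at hxy
  obtain ⟨h1, h2⟩ := hxy
  have h3 : c x = c y := Units.ext h2
  apply Subtype.ext
  apply Prod.ext
  · rw [hc x, hc y, h3, h1]
  · exact h1

section Lam

variable (H : Subgroup G) (hNH : N ≤ H) (σ : Representation ℂ H W)

/-- The preimage of `H` in `Γ`. -/
def GamH (N : Subgroup G) [N.Normal] (ρ : Representation ℂ N W) (H : Subgroup G) :
    Subgroup (Gam N ρ) := H.comap (prj N ρ)

instance GamH_normal (N : Subgroup G) [N.Normal] (ρ : Representation ℂ N W) :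
    (GamH N ρ N).Normal := by
  unfold GamH
  infer_instance

theorem mem_GamH {x : Gam N ρ} : x ∈ GamH N ρ H ↔ x.1.2 ∈ H := Iff.rfl

variable {H hNH σ}

/-- An element of `Ĥ` is a scalar multiple of `σ h`. -/
theorem exists_scalar_of_mem [Finite N] (hρ : ρ.IsIrreducible)
    (hσ : ∀ n : N, σ ⟨n, hNH n.2⟩ = ρ n) (x : GamH N ρ H) :
    ∃ c : ℂˣ, (x.1.1.1 : Module.End ℂ W) = (c : ℂ) • σ ⟨x.1.1.2, x.2⟩ := by
  haveI := nontrivial_of_irr hρ
  set h : H := ⟨x.1.1.2, x.2⟩ with hh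
  let S : (Module.End ℂ W)ˣ := x.1.1.1
  have hσu : ∀ k l : H, k * l = 1 → σ k * σ l = 1 := by
    intro k l hkl
    rw [← map_mul, hkl, map_one]
  have hcomm : ∀ n : N, σ h⁻¹ * (S : Module.End ℂ W) * ρ n = ρ n * (σ h⁻¹ * (S : Module.End ℂ W)) := by
    intro n
    have h1 : (S : Module.End ℂ W) * ρ n = ρ (cj N x.1.1.2 n) * (S : Module.End ℂ W) := x.1.2.2 n
    have h2 : σ h⁻¹ * ρ (cj N x.1.1.2 n) = ρ n * σ h⁻¹ := by
      rw [← hσ n, ← hσ (cj N x.1.1.2 n), ← map_mul, ← map_mul]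
      congr 1
      apply Subtype.ext
      simp [hh, mul_assoc]
    rw [mul_assoc, h1, ← mul_assoc, h2, mul_assoc]
  obtain ⟨c, hc⟩ := scalar_of_comm hρ _ hcomm
  have hS : (S : Module.End ℂ W) = c • σ h := by
    have h3 : σ h * σ h⁻¹ = 1 := hσu _ _ (mul_inv_cancel h)
    calc (S : Module.End ℂ W) = (σ h * σ h⁻¹) * (S : Module.End ℂ W) := by rw [h3, one_mul]
      _ = σ h * (σ h⁻¹ * (S : Module.End ℂ W)) := by rw [mul_assoc]
      _ = c • σ h := by rw [hc]; simp [mul_smul_comm]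
  have hc0 : c ≠ 0 := by
    rintro rfl
    rw [zero_smul] at hS
    exact S.ne_zero hS
  exact ⟨Units.mk0 c hc0, by simpa using hS⟩

theorem isUnit_sig (h : H) : IsUnit (σ h) :=
  ⟨⟨σ h, σ h⁻¹, by rw [← map_mul]; simp, by rw [← map_mul]; simp⟩, rfl⟩

/-- The tautological linear character of `Ĥ` attached to an extension `σ` of `ρ` to `H`. -/
noncomputable def lam [Finite N] (hρ : ρ.IsIrreducible)
    (hσ : ∀ n : N, σ ⟨n, hNH n.2⟩ = ρ n) : GamH N ρ H →* ℂˣ :=
  MonoidHom.mk' (fun x => Classical.choose (exists_scalar_of_mem hρ hσ x)) (by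
    intro x y
    haveI := nontrivial_of_irr hρ
    have h1 := Classical.choose_spec (exists_scalar_of_mem hρ hσ x)
    have h2 := Classical.choose_spec (exists_scalar_of_mem hρ hσ y)
    have h3 := Classical.choose_spec (exists_scalar_of_mem hρ hσ (x * y))
    set a := Classical.choose (exists_scalar_of_mem hρ hσ x)
    set b := Classical.choose (exists_scalar_of_mem hρ hσ y)
    set c := Classical.choose (exists_scalar_of_mem hρ hσ (x * y))
    apply Units.ext
    simp only [Units.val_mul]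
    refine smul_cancel (isUnit_sig (σ := σ) ⟨(x * y).1.1.2, (x * y).2⟩) ?_
    rw [← h3]
    have h4 : ((x * y).1.1.1 : Module.End ℂ W) = (x.1.1.1 : Module.End ℂ W) * (y.1.1.1 : Module.End ℂ W) := rfl
    rw [h4, h1, h2, smul_mul_smul_comm, ← map_mul]
    rfl)

theorem lam_spec [Finite N] (hρ : ρ.IsIrreducible)
    (hσ : ∀ n : N, σ ⟨n, hNH n.2⟩ = ρ n) (x : GamH N ρ H) :
    (x.1.1.1 : Module.End ℂ W) = (lam hρ hσ x : ℂ) • σ ⟨x.1.1.2, x.2⟩ :=
  Classical.choose_spec (exists_scalar_of_mem hρ hσ x)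

theorem lam_unique [Finite N] (hρ : ρ.IsIrreducible)
    (hσ : ∀ n : N, σ ⟨n, hNH n.2⟩ = ρ n) (x : GamH N ρ H) (c : ℂˣ)
    (h : (x.1.1.1 : Module.End ℂ W) = (c : ℂ) • σ ⟨x.1.1.2, x.2⟩) : lam hρ hσ x = c := by
  haveI := nontrivial_of_irr hρ
  apply Units.ext
  refine smul_cancel (isUnit_sig (σ := σ) ⟨x.1.1.2, x.2⟩) ?_
  rw [← lam_spec, h]

end Lam

/-- The tautological character of `N̂`. -/
noncomputable def phi [Finite N] (hρ : ρ.IsIrreducible) : GamH N ρ N →* ℂˣ :=
  lam (hNH := le_rfl) (σ := ρ) hρ (fun _ => rfl)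

theorem phi_spec [Finite N] (hρ : ρ.IsIrreducible) (x : GamH N ρ N) :
    (x.1.1.1 : Module.End ℂ W) = (phi hρ x : ℂ) • ρ ⟨x.1.1.2, x.2⟩ :=
  lam_spec (hNH := le_rfl) (σ := ρ) hρ (fun _ => rfl) x

theorem phi_unique [Finite N] (hρ : ρ.IsIrreducible) (x : GamH N ρ N) (c : ℂˣ)
    (h : (x.1.1.1 : Module.End ℂ W) = (c : ℂ) • ρ ⟨x.1.1.2, x.2⟩) : phi hρ x = c :=
  lam_unique (hNH := le_rfl) (σ := ρ) hρ (fun _ => rfl) x c h

/-- The extension `lam` restricted to `N̂` is `phi`. -/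
theorem lam_eq_phi [Finite N] (hρ : ρ.IsIrreducible) {H : Subgroup G} (hNH : N ≤ H)
    {σ : Representation ℂ H W} (hσ : ∀ n : N, σ ⟨n, hNH n.2⟩ = ρ n) (x : GamH N ρ N) :
    lam hρ hσ ⟨x.1, hNH x.2⟩ = phi hρ x := by
  apply lam_unique
  rw [phi_spec hρ x]
  congr 1
  exact (hσ ⟨x.1.1.2, x.2⟩).symm

/-- `phi` is `Γ`-invariant. -/
theorem phi_conj [Finite N] (hρ : ρ.IsIrreducible) (y : Gam N ρ) (x : GamH N ρ N) :
    phi hρ ⟨y * x * y⁻¹, (GamH_normal N ρ).conj_mem x x.2 y⟩ = phi hρ x := by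
  apply phi_unique
  have h1 := phi_spec hρ x
  have h2 : ((y * x.1 * y⁻¹ : Gam N ρ).1.1 : Module.End ℂ W) =
      (y.1.1 : Module.End ℂ W) * (x.1.1.1 : Module.End ℂ W) *
        ((y.1.1⁻¹ : (Module.End ℂ W)ˣ) : Module.End ℂ W) := rfl
  simp only
  rw [h2, h1, mul_smul_comm, smul_mul_assoc]
  congr 1
  have h3 := y.2.2 ⟨x.1.1.2, x.2⟩
  rw [h3]
  simp only [mul_assoc, Units.mul_inv, mul_one]
  congr 2
  apply Subtype.ext
  show y.1.2 * x.1.1.2 * y.1.2⁻¹ = y.1.2 * (x.1.1.2 * y.1.2⁻¹)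
  rw [mul_assoc]

/-- The extended representation coming from an extension of `phi`. -/
theorem exists_rep_of_ext [Finite N] (hρ : ρ.IsIrreducible)
    (hinv : ∀ (g : G) (n : N), ρ.character (cj N g n) = ρ.character n)
    (Λ : Gam N ρ →* ℂˣ) (hΛ : ∀ x : GamH N ρ N, Λ x = phi hρ x) :
    ∃ τ : Representation ℂ G W, ∀ n : N, τ n = ρ n := by
  classical
  haveI := nontrivial_of_irr hρ
  choose s hs using exists_mem_Gam hρ hinv
  let ls : G → Gam N ρ := fun g => ⟨(s g, g), hs g⟩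
  let f : G → Module.End ℂ W := fun g => (((Λ (ls g))⁻¹ : ℂˣ) : ℂ) • (s g : Module.End ℂ W)
  have hkey : ∀ x : Gam N ρ, (x.1.1 : Module.End ℂ W) = (Λ x : ℂ) • f x.1.2 := by
    intro x
    obtain ⟨c, hc, hc'⟩ := exists_scalar_same hρ (P := x.1.1) (g := x.1.2) x.2 (hs x.1.2)
    -- the scalar element
    let z : Gam N ρ := ⟨(scU c, 1), scU_mem hc'⟩
    have hz : z.1.2 ∈ N := N.one_mem
    have hxz : x = z * ls x.1.2 := by
      apply Subtype.ext
      apply Prod.ext
      · exact hc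
      · show x.1.2 = 1 * x.1.2
        rw [one_mul]
    have h1 : Λ z = c := by
      have h2 := hΛ ⟨z, hz⟩
      have h3 : phi hρ ⟨z, hz⟩ = c := by
        apply phi_unique
        have : ρ ⟨z.1.2, hz⟩ = 1 := by
          have : (⟨z.1.2, hz⟩ : N) = 1 := rfl
          rw [this, map_one]
        rw [this]
        exact coe_scU c
      rw [← h3, ← h2]
    have h4 : Λ x = c * Λ (ls x.1.2) := by
      conv_lhs => rw [hxz]
      rw [map_mul, h1]
    simp only [f]
    have h7 : ((c * Λ (ls x.1.2) : ℂˣ) : ℂ) * (((Λ (ls x.1.2))⁻¹ : ℂˣ) : ℂ) = c := by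
      rw [← Units.val_mul, mul_assoc, mul_inv_cancel, mul_one]
    rw [h4, hc, smul_smul, h7]
    simp only [Units.val_mul, coe_scU, smul_mul_assoc, one_mul]
  have hf_mul : ∀ g h : G, f (g * h) = f g * f h := by
    intro g h
    have h1 := hkey (ls g * ls h)
    have h2 : Λ (ls g * ls h) = Λ (ls g) * Λ (ls h) := map_mul _ _ _
    have h3 : ((ls g * ls h : Gam N ρ).1.1 : Module.End ℂ W) =
        (s g : Module.End ℂ W) * (s h : Module.End ℂ W) := rfl
    have h4 : (ls g * ls h : Gam N ρ).1.2 = g * h := rfl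
    rw [h3, h4, h2] at h1
    have hg := hkey (ls g)
    have hh := hkey (ls h)
    have h5 : (s g : Module.End ℂ W) = (Λ (ls g) : ℂ) • f g := hg
    have h6 : (s h : Module.End ℂ W) = (Λ (ls h) : ℂ) • f h := hh
    rw [h5, h6, smul_mul_smul_comm] at h1
    simp only [Units.val_mul] at h1
    have hne : ((Λ (ls g) : ℂ) * (Λ (ls h) : ℂ)) ≠ 0 :=
      mul_ne_zero (Units.ne_zero _) (Units.ne_zero _)
    exact (smul_right_injective _ hne h1).symm
  have hf_one : f 1 = 1 := by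
    have h1 := hkey 1
    have h2 : ((1 : Gam N ρ).1.1 : Module.End ℂ W) = 1 := rfl
    have h3 : (1 : Gam N ρ).1.2 = (1 : G) := rfl
    rw [h2, h3, map_one] at h1
    simpa using h1.symm
  refine ⟨⟨⟨f, hf_one⟩, hf_mul⟩, fun n => ?_⟩
  show f n = ρ n
  have h1 := hkey (ls n)
  have h2 : (ls n : Gam N ρ).1.2 = n := rfl
  rw [h2] at h1
  have h3 := phi_spec hρ ⟨ls n, n.2⟩
  have h4 := hΛ ⟨ls n, n.2⟩
  simp only at h3 h4
  rw [h4] at h1
  have h5 : (⟨(ls n).1.2, n.2⟩ : N) = n := rfl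
  rw [h5] at h3
  rw [h3] at h1
  exact (smul_right_injective _ (Units.ne_zero _) h1).symm

end Gamma

end Cfsg.Agent.H04.Cliff
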