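import Mathlib.GroupTheory.Transfer
import Cfsg.Agent.Lib.H19.Hopf2

/-!
# Extending invariant linear characters through the transfer
-/

set_option autoImplicit false
set_option linter.style.haveILetI false
set_option linter.unusedSectionVars false
set_option linter.unusedSimpArgs false
set_option linter.unusedVariables false

namespace Cfsg.Agent.H04.Cliff

open Subgroup MulAction

section Abstract

variable {Γ : Type*} [Group Γ] [Finite Γ]

/-- The transfer of an extension, evaluated on the normal subgroup. -/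
theorem transfer_normal (M : Subgroup Γ) [hM : M.Normal] {A : Type*} [CommGroup A] (φ : M →* A)
    (hinv : ∀ (g : Γ) (m : M), φ ⟨g * m * g⁻¹, hM.conj_mem m m.2 g⟩ = φ m)
    (H : Subgroup Γ) (hMH : M ≤ H) (ν : H →* A) (hν : ∀ m : M, ν ⟨m, hMH m.2⟩ = φ m) (x : M) :
    ν.transfer (x : Γ) = φ x ^ H.index := by
  classical
  haveI : Fintype (Quotient (orbitRel (zpowers (x : Γ)) (Γ ⧸ H))) := Fintype.ofFinite _
  rw [MonoidHom.transfer_eq_prod_quotient_orbitRel_zpowers_quot, index_eq_sum_minimalPeriod H (x : Γ),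
    ← Finset.prod_pow_eq_pow_sum]
  refine Finset.prod_congr rfl fun q _ => ?_
  set y : Γ := q.out.out with hy
  set k : ℕ := Function.minimalPeriod ((x : Γ) • ·) q.out with hk
  have hm : (y⁻¹ * (x : Γ) ^ k * y) ∈ M := by
    have := hM.conj_mem ((x : Γ) ^ k) (M.pow_mem x.2 k) y⁻¹
    simpa using this
  have h1 := hν ⟨_, hm⟩
  have h2 := hinv y⁻¹ (x ^ k)
  have h3 : (⟨y⁻¹ * ((x ^ k : M) : Γ) * y⁻¹⁻¹, hM.conj_mem _ (x ^ k).2 y⁻¹⟩ : M) = ⟨_, hm⟩ := by
    apply Subtype.ext
    simp
  rw [h3, ← h1] at h2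
  rw [← map_pow, ← h2]

/-- A homomorphism to a commutative group kills commutators. -/
theorem map_commutator_eq_one {A : Type*} [CommGroup A] (f : Γ →* A) {x : Γ}
    (hx : x ∈ commutator Γ) : f x = 1 := by
  have h : commutator Γ ≤ f.ker := by
    rw [commutator_def, Subgroup.commutator_le]
    intro a _ b _
    simp [MonoidHom.mem_ker, commutatorElement_def, mul_comm (f a)]
  exact h hx

/-- Consequence: on commutators in the normal subgroup, the power by the index dies. -/
theorem pow_index_eq_one (M : Subgroup Γ) [hM : M.Normal] {A : Type*} [CommGroup A] (φ : M →* A)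
    (hinv : ∀ (g : Γ) (m : M), φ ⟨g * m * g⁻¹, hM.conj_mem m m.2 g⟩ = φ m)
    (H : Subgroup Γ) (hMH : M ≤ H) (ν : H →* A) (hν : ∀ m : M, ν ⟨m, hMH m.2⟩ = φ m) (x : M)
    (hx : (x : Γ) ∈ commutator Γ) : φ x ^ H.index = 1 := by
  rw [← transfer_normal M φ hinv H hMH ν hν x]
  exact map_commutator_eq_one _ hx

/-- Extension into a divisible group when the map dies on commutators. -/
theorem exists_ext_of_comm (M : Subgroup Γ) (φ : M →* ℂˣ)
    (h : ∀ x : M, (x : Γ) ∈ commutator Γ → φ x = 1) :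
    ∃ Λ : Γ →* ℂˣ, ∀ m : M, Λ m = φ m := by
  classical
  let ab : Γ →* Abelianization Γ := Abelianization.of
  let i : M →* Abelianization Γ := ab.comp M.subtype
  have hker : i.ker ≤ φ.ker := by
    intro x hx
    have h1 : ab (x : Γ) = 1 := hx
    have h2 : (x : Γ) ∈ commutator Γ := by
      have : ab.ker = commutator Γ := Abelianization.ker_of Γ
      rw [← this]
      exact h1
    exact h x h2
  let f : i.range →* ℂˣ := (QuotientGroup.lift i.ker φ hker).comp
    (QuotientGroup.quotientKerEquivRange i).symm.toMonoidHom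
  have hdiv : ∀ (z : ℂˣ) (n : ℕ), n ≠ 0 → ∃ y : ℂˣ, y ^ n = z := by
    intro z n hn
    obtain ⟨w, hw⟩ := IsAlgClosed.exists_pow_nat_eq (z : ℂ) (Nat.pos_of_ne_zero hn)
    have hw0 : w ≠ 0 := by
      rintro rfl
      rw [zero_pow hn] at hw
      exact z.ne_zero hw.symm
    refine ⟨Units.mk0 w hw0, ?_⟩
    ext
    simpa using hw
  obtain ⟨Λ, hΛ⟩ := Cfsg.Agent.H19.Hopf.exists_hom_extension hdiv i.range.subtype Subtype.val_injective f
  refine ⟨Λ.comp ab, fun m => ?_⟩
  have h1 := hΛ ⟨i m, MonoidHom.mem_range.mpr ⟨m, rfl⟩⟩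
  have h2 : f ⟨i m, MonoidHom.mem_range.mpr ⟨m, rfl⟩⟩ = φ m := by
    simp only [f, MonoidHom.coe_comp, Function.comp_apply]
    have : (QuotientGroup.quotientKerEquivRange i).symm ⟨i m, MonoidHom.mem_range.mpr ⟨m, rfl⟩⟩
        = (m : M ⧸ i.ker) := by
      rw [MulEquiv.symm_apply_eq]
      rfl
    simp only [MulEquiv.coe_toMonoidHom, this]
    rfl
  rw [← h2, ← h1]
  rfl

end Abstract

end Cfsg.Agent.H04.Cliff
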